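import Cfsg.Agent.H608.HT.J4a
import Cfsg.Agent.H608.TI.Final
import Cfsg.Agent.H592.Defect
import Cfsg.Agent.H608.J4.Fin

/-!
# S4933: `J₄`, `p = 11` (helper608): the principal block has a character of positive height
-/

set_option autoImplicit false
set_option linter.unusedSectionVars false

open Cfsg Subgroup
open scoped Pointwise

namespace Cfsg.Agent.H608.HT

open Cfsg.Agent.H265.J4LP

universe u v

section

variable {G : Type u} [Group G] [Finite G] {D : Data11 G}

/-- some degree is divisible by 11 but not by 1331 -/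
theorem exists_deg (E : Eleven D) (hN : Nat.card G = 86775571046077562880) :
    ∃ χ : IrrCharacter G, 11 ∣ charDegree (χ : G → ℂ) ∧ ¬ 11 ^ 3 ∣ charDegree (χ : G → ℂ) := by
  classical
  have : Fact (Nat.Prime 11) := ⟨by norm_num⟩
  have := Characters.Core.finite_irr (G := G)
  have := Fintype.ofFinite (IrrCharacter G)
  by_contra hcon
  push Not at hcon
  obtain ⟨a, b, h11⟩ := H34.TI.cols11 E hN
  have hz1 : D.z ≠ 1 := by
    intro h
    have h2 := E.ord_z
    rw [h, orderOf_one] at h2
    omega
  have h1 := moment (G := G) 11 (by rw [hN]; norm_num) (by rw [hN]; norm_num) hz1 (by rw [E.ord_z]) a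
    (fun χ => (h11.a_eq χ).symm) (fun χ => by
      have h2 := h11.cong χ
      have h3 := h11.cong' χ
      unfold H34.TI.dg at h3
      push_cast
      omega) (fun χ => by
      by_cases h : 11 ∣ charDegree (χ : G → ℂ)
      · exact Or.inr (hcon χ h)
      · exact Or.inl h)
  have hcz : Nat.card (centralizer ({D.z} : Set G)) = 31944 := E.card_cent 0
  have hiz := H34.TI.index_eq (m := 2716490453483520) hN hcz (by norm_num)
  obtain ⟨t, ht⟩ := n2_mod E
  rw [hiz, ht] at h1
  push_cast at h1
  omega

/-- the members of positive defect lie in the principal block -/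
theorem mem_principal [Fact (Nat.Prime 11)] (E : Eleven D) (hN : Nat.card G = 86775571046077562880) {M : Ideal AlgInt}
    (hM : IsPModular 11 M) (χ : IrrCharacter G) (hχ : ¬ 11 ^ 3 ∣ charDegree (χ : G → ℂ)) : χ ∈ principalBlock M G := by
  have hMp := Blocks.Local.isPrime_of_isPModular hM
  obtain ⟨P, hP⟩ := exists_sylow E hN
  have hTI : H34.TI.IsTI (P : Subgroup G) := by rw [hP]; exact isTI E
  have hv : (Nat.card G).factorization 11 = 3 := by
    rw [hN]
    exact H34.TI.fact_eleven (by norm_num) (by norm_num) (by norm_num)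
  have hB : IsPBlock M (blockOf M (χ : G → ℂ)) := ⟨χ, rfl⟩
  have hmem : χ ∈ blockOf M (χ : G → ℂ) := Blocks.Basic.mem_blockOf_self χ
  rcases H608.TI.defect_P hM P hTI hB with h | ⟨χ', h1, h2⟩
  · -- full defect
    obtain ⟨ψ, hψ, -, h4⟩ := H592.Defect.exists_height_zero 11 hM hB
    have h5 := Cfsg.Agent.S0908.result 11 M hM _ hB _ h
    rw [P.card_eq_multiplicity, hv] at h5
    have h6 : blockDefect 11 (blockOf M (χ : G → ℂ)) = 3 := (Nat.pow_right_injective (by norm_num : 2 ≤ 11) h5).symm
    rw [h6, hv] at h4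
    have h7 : (charDegree (ψ : G → ℂ)).factorization 11 = 0 := by omega
    have h8 : ¬ 11 ∣ charDegree (ψ : G → ℂ) := by
      intro h9
      have h10 := (Nat.Prime.dvd_iff_one_le_factorization (by norm_num : Nat.Prime 11)
        (Blocks.Basic.charDegree_pos ψ.2).ne').1 h9
      omega
    have h9 : ψ ∈ principalBlock M G := H633.Unique.mem_of_centralizer hM P (J4.pgroup_cent E hN P) ψ h8
    have h10 : blockOf M (χ : G → ℂ) = principalBlock M G :=
      Blocks.Basic.isPBlock_eq_of_mem hB Blocks.PrincipalSection.isPBlock_principalBlock hψ h9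
    rw [← h10]
    exact hmem
  · exfalso
    rw [h1] at hmem
    have h3 : χ = χ' := hmem
    subst h3
    apply hχ
    have h4 : (charDegree (χ : G → ℂ)).factorization 11 = 3 := by
      rw [← hv]
      exact h2
    have h5 := Nat.ordProj_dvd (charDegree (χ : G → ℂ)) 11
    rwa [h4] at h5

end

attribute [local instance] H877.IMJ4.finJ4

/-- **(J₄, 11)** -/
theorem exists_pos [Fact (Nat.Prime 11)] {M : Ideal AlgInt} (hM : IsPModular 11 M) :
    ∃ χ ∈ principalBlock M Spor.J4, 11 ∣ charDegree (χ : Spor.J4 → ℂ) ∧ ¬ 11 ^ 3 ∣ charDegree (χ : Spor.J4 → ℂ) := by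
  obtain ⟨χ, h1, h2⟩ := exists_deg El.eleven H735.J4C.hN
  exact ⟨χ, mem_principal El.eleven H735.J4C.hN hM χ h2, h1, h2⟩

end Cfsg.Agent.H608.HT
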